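import Cfsg.Agent.LocalStructure.Elements
import Cfsg.Agent.Coprime.PTimesQ
import Cfsg.Agent.Components.FStar
import Cfsg.Agent.PLocal.Cores
import Cfsg.Agent.Solvable.Fitting

/-!
# Groups of characteristic `p` (`C_G(O_p(G)) ≤ O_p(G)`): inheritance

`charP_of_le_normalizer` (subgroups normalised by `O_p(G)`), `charP_of_isSubnormal`,
`charP_of_plocal`, `fstar_eq_pCore_iff`, `mem_eq_one_of_coprime_centralizes_pCore`.
-/

namespace CfsgLib.CharP49

open scoped commutatorElement

variable {G : Type*} [Group G] {p : ℕ}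

/-- `G` has characteristic `p`. -/
def CharP (p : ℕ) (G : Type*) [Group G] : Prop :=
  Subgroup.centralizer (Cfsg.pCore p G : Set G) ≤ Cfsg.pCore p G

variable [Finite G] [Fact p.Prime]

/-- In a group of characteristic `p` a `p'`-element centralising `O_p` is trivial. -/
theorem eq_one_of_coprime (hG : CharP p G) {x : G}
    (hx : x ∈ Subgroup.centralizer (Cfsg.pCore p G : Set G)) (hc : (orderOf x).Coprime p) : x = 1 :=
  LocalStructure.eq_one_of_coprime_of_mem (PLocal.isPGroup_pCore p G) (hG hx) hc

/-- To have characteristic `p` it is enough that no `p'`-element centralises `O_p`. -/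
theorem charP_of_forall (h : ∀ x ∈ Subgroup.centralizer (Cfsg.pCore p G : Set G),
    (orderOf x).Coprime p → x = 1) : CharP p G := by
  have := CfsgLib.PLocal.pCoreCharacteristic p G
  exact PLocal.le_pCore (LocalStructure.isPGroup_of_coprime_eq_one h)

/-- A `p'`-element centralising `P` and `C_U(P)` centralises the `p`-group `U`. -/
theorem mem_centralizer_of_pTimesQ {U P : Subgroup G} (hU : IsPGroup p U) (hP : IsPGroup p P) {x : G}
    (hx : (orderOf x).Coprime p) (hxU : x ∈ Subgroup.normalizer (U : Set G))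
    (hPU : P ≤ Subgroup.normalizer (U : Set G)) (hxP : x ∈ Subgroup.centralizer (P : Set G))
    (hC : x ∈ Subgroup.centralizer ((U ⊓ Subgroup.centralizer (P : Set G) : Subgroup G) : Set G)) :
    x ∈ Subgroup.centralizer (U : Set G) := by
  refine Coprime.le_centralizer_of_inf_centralizer_le (Q := Subgroup.zpowers x) hP
    (by rwa [Nat.card_zpowers]) hU ?_ hPU (Subgroup.zpowers_le.2 hxU) ?_ (Subgroup.mem_zpowers x)
  · rw [Subgroup.le_centralizer_iff, Subgroup.zpowers_le]; exact hxP
  · rw [Subgroup.le_centralizer_iff, Subgroup.zpowers_le]; exact hC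

theorem coe_mem_centralizer {L A : Subgroup G} {B : Subgroup L} (h : A.subgroupOf L ≤ B) (hA : A ≤ L)
    {x : L} (hx : x ∈ Subgroup.centralizer (B : Set L)) : (x : G) ∈ Subgroup.centralizer (A : Set G) := by
  rw [Subgroup.mem_centralizer_iff] at hx ⊢
  intro a ha
  exact congrArg Subtype.val (hx ⟨a, hA ha⟩ (h (show (⟨a, hA ha⟩ : L) ∈ A.subgroupOf L from ha)))

omit [Finite G] [Fact p.Prime] in
theorem commutator_mem_left {A : Subgroup G} {x y : G} (hy : y ∈ Subgroup.normalizer (A : Set G))
    (hx : x ∈ A) : ⁅x, y⁆ ∈ A := by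
  rw [commutatorElement_def, show x * y * x⁻¹ * y⁻¹ = x * (y * x⁻¹ * y⁻¹) by group]
  exact A.mul_mem hx ((Subgroup.mem_normalizer_iff.1 hy x⁻¹).1 (A.inv_mem hx))

omit [Finite G] [Fact p.Prime] in
theorem commutator_mem_right {A : Subgroup G} {x y : G} (hx : x ∈ Subgroup.normalizer (A : Set G))
    (hy : y ∈ A) : ⁅x, y⁆ ∈ A := by
  rw [commutatorElement_def]
  exact A.mul_mem ((Subgroup.mem_normalizer_iff.1 hx y).1 hy) (A.inv_mem hy)

/-- A subgroup normalised by `O_p(G)` inherits characteristic `p`. -/
theorem charP_of_le_normalizer (hG : CharP p G) (L : Subgroup G)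
    (hL : Cfsg.pCore p G ≤ Subgroup.normalizer (L : Set G)) : CharP p L := by
  refine charP_of_forall fun x hx hc => ?_
  set Q := Cfsg.pCore p G with hQ
  have hQp : IsPGroup p Q := PLocal.isPGroup_pCore p G
  have h1 : (Q ⊓ L).subgroupOf L ≤ Cfsg.pCore p L := by
    rw [Subgroup.inf_subgroupOf_right]; exact PLocal.pCore_subgroupOf_le L
  have h2 : (x : G) ∈ Subgroup.centralizer ((Q ⊓ L : Subgroup G) : Set G) :=
    coe_mem_centralizer h1 inf_le_right hx
  have hc' : (orderOf (x : G)).Coprime p := by rwa [Subgroup.orderOf_coe]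
  have h3 : (x : G) ∈ Subgroup.centralizer (Q : Set G) := by
    refine LocalStructure.mem_centralizer_of_stab (A := Q ⊓ L) (hQp.to_le inf_le_left) hc' h2 fun q hq =>
      ⟨commutator_mem_right (Subgroup.normalizer_eq_top (H := Q) ▸ trivial) hq,
        commutator_mem_left (hL hq) x.2⟩
  exact Subtype.ext (eq_one_of_coprime hG h3 hc')

theorem charP_congr {H : Type*} [Group H] (e : G ≃* H) (hG : CharP p G) : CharP p H := by
  intro y hy
  rw [← PLocal.map_pCore_equiv e] at hy ⊢
  refine ⟨e.symm y, hG ?_, e.apply_symm_apply y⟩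
  rw [Subgroup.mem_centralizer_iff] at hy ⊢
  intro q hq
  apply e.injective
  rw [map_mul, map_mul, e.apply_symm_apply]
  exact hy (e q) ⟨q, hq, rfl⟩

/-- Subnormal subgroups inherit characteristic `p`. -/
theorem charP_of_isSubnormal (hG : CharP p G) {L : Subgroup G} (hL : L.IsSubnormal) : CharP p L := by
  induction hL with
  | top => exact charP_congr Subgroup.topEquiv.symm hG
  | step H K hle _ hN ih =>
    refine charP_congr (Subgroup.subgroupOfEquivOfLe hle) ?_
    exact charP_of_le_normalizer ih _ (Subgroup.normalizer_eq_top (H := H.subgroupOf K) ▸ le_top)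

/-- `p`-local subgroups inherit characteristic `p`. -/
theorem charP_of_plocal (hG : CharP p G) {P H : Subgroup G} (hP : IsPGroup p P)
    (hC : Subgroup.centralizer (P : Set G) ≤ H) (hH : H ≤ Subgroup.normalizer (P : Set G))
    (hor : P ≤ H ∨ H ≤ Subgroup.centralizer (P : Set G)) : CharP p H := by
  refine charP_of_forall fun x hx hc => ?_
  set Q := Cfsg.pCore p G with hQ
  have hQp : IsPGroup p Q := PLocal.isPGroup_pCore p G
  have hc' : (orderOf (x : G)).Coprime p := by rwa [Subgroup.orderOf_coe]
  have hN : ∀ g : G, g ∈ Subgroup.normalizer (Q : Set G) := fun g =>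
    Subgroup.normalizer_eq_top (H := Q) ▸ trivial
  have hxP : (x : G) ∈ Subgroup.centralizer (P : Set G) := by
    rcases hor with hPH | hHC
    · have : (P.subgroupOf H).Normal := (Subgroup.normal_subgroupOf_iff_le_normalizer hPH).2 hH
      exact coe_mem_centralizer
        (PLocal.le_pCore (hP.comap_of_injective H.subtype H.subtype_injective)) hPH hx
    · exact hHC x.2
  have hle : Q ⊓ Subgroup.centralizer (P : Set G) ≤ H := inf_le_right.trans hC
  have hn : ((Q ⊓ Subgroup.centralizer (P : Set G)).subgroupOf H).Normal := by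
    refine ⟨fun a ha h => ?_⟩
    rw [Subgroup.mem_subgroupOf] at ha ⊢
    refine ⟨(Subgroup.mem_normalizer_iff.1 (hN h) _).1 ha.1, ?_⟩
    refine Subgroup.mem_centralizer_iff.2 fun z hz => ?_
    have h2 := Subgroup.mem_centralizer_iff.1 ha.2 _
      ((Subgroup.mem_normalizer_iff.1 ((Subgroup.normalizer (P : Set G)).inv_mem (hH h.2)) z).1 hz)
    simp only [inv_inv] at h2
    simp only [Subgroup.coe_mul, Subgroup.coe_inv]
    calc z * ((h : G) * a * (h : G)⁻¹) = (h : G) * ((h : G)⁻¹ * z * h * a) * (h : G)⁻¹ := by group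
      _ = (h : G) * (a * ((h : G)⁻¹ * z * h)) * (h : G)⁻¹ := by rw [h2]
      _ = (h : G) * a * (h : G)⁻¹ * z := by group
  have hle' : (Q ⊓ Subgroup.centralizer (P : Set G)).subgroupOf H ≤ Cfsg.pCore p H :=
    PLocal.le_pCore ((hQp.to_le inf_le_left).comap_of_injective H.subtype H.subtype_injective)
  have h3 : (x : G) ∈ Subgroup.centralizer (Q : Set G) :=
    mem_centralizer_of_pTimesQ hQp hP hc' (hN _) (fun a _ => hN a) hxP (coe_mem_centralizer hle' hle hx)
  exact Subtype.ext (eq_one_of_coprime hG h3 hc')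

theorem charP_centralizer (hG : CharP p G) {P : Subgroup G} (hP : IsPGroup p P) :
    CharP p (Subgroup.centralizer (P : Set G)) :=
  charP_of_plocal hG hP le_rfl (Subgroup.centralizer_le_normalizer _) (Or.inr le_rfl)

theorem charP_normalizer (hG : CharP p G) {P : Subgroup G} (hP : IsPGroup p P) :
    CharP p (Subgroup.normalizer (P : Set G)) :=
  charP_of_plocal hG hP (Subgroup.centralizer_le_normalizer _) le_rfl (Or.inl Subgroup.le_normalizer)

/-- `F*(G) = O_p(G)` exactly when `G` has characteristic `p`. -/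
theorem fstar_eq_pCore_iff :
    Cfsg.generalizedFittingSubgroup G = Cfsg.pCore p G ↔ CharP p G := by
  constructor
  · intro h
    unfold CharP
    rw [← h]
    exact Components.centralizer_generalizedFitting_le_self
  · intro h
    refine Components.generalizedFitting_eq_pCore p ?_ fun N hN hcop => ?_
    · have h1 : Cfsg.layer G ≤ Cfsg.pCore p G :=
        le_trans (le_trans Components.layer_le_centralizer_fittingSubgroup
          (Subgroup.centralizer_le (Components.pCore_le_fittingSubgroup p))) h
      rw [Cfsg.layer, sSup_eq_bot]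
      intro L hL
      exfalso
      have h2 : IsPGroup p L := (PLocal.isPGroup_pCore p G).to_le ((le_sSup hL).trans h1)
      have := h2.isNilpotent
      exact Components.IsComponent.not_isSolvable hL inferInstance
    · have hdis : N ⊓ Cfsg.pCore p G = ⊥ := by
        rw [inf_comm]; exact PLocal.disjoint_of_isPGroup_of_coprime (PLocal.isPGroup_pCore p G) hcop
      have hle : N ≤ Subgroup.centralizer (Cfsg.pCore p G : Set G) := by
        rw [← Subgroup.commutator_eq_bot_iff_le_centralizer, eq_bot_iff, ← hdis]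
        exact Subgroup.commutator_le_inf N (Cfsg.pCore p G)
      exact PLocal.eq_bot_of_isPGroup_of_coprime ((PLocal.isPGroup_pCore p G).to_le (hle.trans h)) hcop

end CfsgLib.CharP49
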