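import Cfsg.Agent.CharP49.Basic

/-!
# Self-centralising normal subgroups of a Sylow subgroup in a group of characteristic `p`
-/

namespace CfsgLib.CharP49

open scoped commutatorElement

variable {G : Type*} [Group G] [Finite G] {p : ℕ} [Fact p.Prime]

theorem centralizer_le_of_self_centralizing (hG : CharP p G) (T : Sylow p G) (Q : Subgroup G)
    (hQT : Q ≤ (T : Subgroup G)) (hQn : (T : Subgroup G) ≤ Subgroup.normalizer (Q : Set G))
    (hC : (T : Subgroup G) ⊓ Subgroup.centralizer (Q : Set G) ≤ Q) :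
    Subgroup.centralizer (Q : Set G) ≤ Q := by
  set C := Subgroup.centralizer (Q : Set G) with hCdef
  set N := Subgroup.normalizer (Q : Set G) with hNdef
  have hCN : C ≤ N := Subgroup.centralizer_le_normalizer _
  have hcn : (C.subgroupOf N).Normal := by
    refine ⟨fun a ha h => ?_⟩
    rw [Subgroup.mem_subgroupOf, hCdef, Subgroup.mem_centralizer_iff] at ha ⊢
    intro z hz
    have h2 := ha _ ((Subgroup.mem_normalizer_iff.1 (N.inv_mem h.2) z).1 hz)
    simp only [inv_inv] at h2
    simp only [Subgroup.coe_mul, Subgroup.coe_inv]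
    calc z * ((h : G) * a * (h : G)⁻¹) = (h : G) * ((h : G)⁻¹ * z * h * a) * (h : G)⁻¹ := by group
      _ = (h : G) * (a * ((h : G)⁻¹ * z * h)) * (h : G)⁻¹ := by rw [h2]
      _ = (h : G) * a * (h : G)⁻¹ * z := by group
  have hO : Cfsg.pCore p C ≤ ((T : Subgroup G) ⊓ C).subgroupOf C := by
    intro y hy
    have hO' : (Cfsg.pCore p C).map C.subtype ≤ (T : Subgroup G) := by
      have h1 : (Cfsg.pCore p (C.subgroupOf N)).map (C.subgroupOf N).subtype ≤ Cfsg.pCore p N :=
        PLocal.pCore_map_subtype_le _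
      have h2 : Cfsg.pCore p N ≤ (T.subtype hQn : Subgroup N) := PLocal.pCore_le_sylow _
      rintro _ ⟨c, hc, rfl⟩
      have hc' : (Subgroup.subgroupOfEquivOfLe hCN).symm c ∈ Cfsg.pCore p (C.subgroupOf N) := by
        rw [← PLocal.map_pCore_equiv (Subgroup.subgroupOfEquivOfLe hCN).symm]
        exact ⟨c, hc, rfl⟩
      have h4 := h2 (h1 ⟨_, hc', rfl⟩)
      rw [Sylow.coe_subtype] at h4
      exact h4
    exact ⟨hO' ⟨y, hy, rfl⟩, y.2⟩
  have hchar : CharP p C := charP_centralizer hG (T.2.to_le hQT)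
  intro x hx
  have hxO : (⟨x, hx⟩ : C) ∈ Subgroup.centralizer (Cfsg.pCore p C : Set C) := by
    rw [Subgroup.mem_centralizer_iff]
    intro y hy
    have hyQ : (y : G) ∈ Q := hC (hO hy)
    exact Subtype.ext (Subgroup.mem_centralizer_iff.1 hx y hyQ)
  exact hC (hO (hchar hxO))

/-- Overgroups of such a subgroup have characteristic `p`. -/
theorem charP_of_overgroup (hG : CharP p G) (T : Sylow p G) (Q : Subgroup G)
    (hQT : Q ≤ (T : Subgroup G)) (hQn : (T : Subgroup G) ≤ Subgroup.normalizer (Q : Set G))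
    (hC : (T : Subgroup G) ⊓ Subgroup.centralizer (Q : Set G) ≤ Q) (L : Subgroup G) (hQL : Q ≤ L) :
    CharP p L := by
  set Q1 := Cfsg.pCore p G with hQ1
  have hQ1p : IsPGroup p Q1 := PLocal.isPGroup_pCore p G
  have hQ1n : ∀ g : G, g ∈ Subgroup.normalizer (Q1 : Set G) := fun g =>
    Subgroup.normalizer_eq_top (H := Q1) ▸ trivial
  set D := Q1 ⊓ L with hD
  set N := Q1 ⊓ Subgroup.normalizer (D : Set G) with hN
  have hLD : ∀ l ∈ L, l ∈ Subgroup.normalizer (D : Set G) := by
    intro l hl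
    rw [Subgroup.mem_normalizer_iff]
    intro y
    rw [hD, Subgroup.mem_inf, Subgroup.mem_inf, ← Subgroup.mem_normalizer_iff.1 (hQ1n l) y,
      L.mul_mem_cancel_right (L.inv_mem hl), L.mul_mem_cancel_left hl]
  have hLN : ∀ l ∈ L, l ∈ Subgroup.normalizer (N : Set G) := by
    intro l hl
    rw [Subgroup.mem_normalizer_iff]
    intro y
    rw [hN, Subgroup.mem_inf, Subgroup.mem_inf, ← Subgroup.mem_normalizer_iff.1 (hQ1n l) y,
      Subgroup.mul_mem_cancel_right _ (Subgroup.inv_mem _ (hLD l hl)),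
      Subgroup.mul_mem_cancel_left _ (hLD l hl)]
  -- elements of `L` centralising `D` and stabilising `N / D`
  let W : Subgroup G :=
    { carrier := {g | g ∈ L ∧ g ∈ Subgroup.centralizer (D : Set G) ∧ ∀ n ∈ N, ⁅g, n⁆ ∈ D}
      one_mem' := ⟨L.one_mem, Subgroup.one_mem _, fun n _ => by
        rw [commutatorElement_one_left]; exact D.one_mem⟩
      mul_mem' := by
        rintro a b ⟨ha, ha1, ha2⟩ ⟨hb, hb1, hb2⟩
        refine ⟨L.mul_mem ha hb, Subgroup.mul_mem _ ha1 hb1, fun n hn => ?_⟩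
        have : ⁅a * b, n⁆ = a * ⁅b, n⁆ * a⁻¹ * ⁅a, n⁆ := by
          simp only [commutatorElement_def]; group
        rw [this]
        exact D.mul_mem ((Subgroup.mem_normalizer_iff.1 (hLD a ha) _).1 (hb2 n hn)) (ha2 n hn)
      inv_mem' := by
        rintro a ⟨ha, ha1, ha2⟩
        refine ⟨L.inv_mem ha, Subgroup.inv_mem _ ha1, fun n hn => ?_⟩
        have : ⁅a⁻¹, n⁆ = a⁻¹ * (⁅a, n⁆)⁻¹ * a⁻¹⁻¹ := by simp only [commutatorElement_def]; group
        rw [this]
        exact (Subgroup.mem_normalizer_iff.1 (hLD a⁻¹ (L.inv_mem ha)) _).1 (D.inv_mem (ha2 n hn)) }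
  have hWL : W ≤ L := fun g hg => hg.1
  have hWn : (W.subgroupOf L).Normal := by
    refine ⟨fun w hw l => ?_⟩
    obtain ⟨hw0, hw1, hw2⟩ := (show (w : G) ∈ W from hw)
    refine ⟨L.mul_mem (L.mul_mem l.2 hw0) (L.inv_mem l.2), ?_, fun n hn => ?_⟩
    · rw [Subgroup.mem_centralizer_iff]
      intro d hd
      have h2 := Subgroup.mem_centralizer_iff.1 hw1 _
        ((Subgroup.mem_normalizer_iff.1 (hLD _ (L.inv_mem l.2)) d).1 hd)
      simp only [inv_inv] at h2
      simp only [Subgroup.coe_subtype, Subgroup.coe_mul, Subgroup.coe_inv]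
      calc d * ((l : G) * w * (l : G)⁻¹) = (l : G) * ((l : G)⁻¹ * d * l * w) * (l : G)⁻¹ := by group
        _ = (l : G) * ((w : G) * ((l : G)⁻¹ * d * l)) * (l : G)⁻¹ := by rw [h2]
        _ = (l : G) * w * (l : G)⁻¹ * d := by group
    · have hn' := (Subgroup.mem_normalizer_iff.1 (hLN _ (L.inv_mem l.2)) n).1 hn
      have h3 := (Subgroup.mem_normalizer_iff.1 (hLD _ l.2) _).1 (hw2 _ hn')
      simp only [commutatorElement_def] at h3 ⊢
      simp only [Subgroup.coe_subtype, Subgroup.coe_mul, Subgroup.coe_inv]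
      convert h3 using 1
      group
  have hND : N ⊓ Subgroup.centralizer (D : Set G) = Q1 ⊓ Subgroup.centralizer (D : Set G) := by
    rw [hN, inf_assoc, inf_eq_right.2 (Subgroup.centralizer_le_normalizer _)]
  have hWp : IsPGroup p W := LocalStructure.isPGroup_of_coprime_eq_one fun x hx hc => by
    have h1 : x ∈ Subgroup.centralizer (N : Set G) :=
      LocalStructure.mem_centralizer_of_stab (A := D) (hQ1p.to_le inf_le_left) hc hx.2.1 hx.2.2
    have h2 : x ∈ Subgroup.centralizer (Q1 : Set G) :=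
      mem_centralizer_of_pTimesQ hQ1p (hQ1p.to_le (inf_le_left : D ≤ Q1)) hc (hQ1n _) (fun a _ => hQ1n a)
        hx.2.1 (Subgroup.centralizer_le (hND.ge.trans inf_le_left) h1)
    exact eq_one_of_coprime hG h2 hc
  refine charP_of_forall fun k hk hc => ?_
  have hc' : (orderOf (k : G)).Coprime p := by rwa [Subgroup.orderOf_coe]
  have hWR : W.subgroupOf L ≤ Cfsg.pCore p L :=
    PLocal.le_pCore (hWp.comap_of_injective L.subtype L.subtype_injective)
  -- the centraliser of `O_p(L)` centralises `D`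
  have hKD : ∀ g : L, g ∈ Subgroup.centralizer (Cfsg.pCore p L : Set L) →
      (g : G) ∈ Subgroup.centralizer (D : Set G) := fun g hg =>
    coe_mem_centralizer (by rw [Subgroup.inf_subgroupOf_right]; exact PLocal.pCore_subgroupOf_le L)
      inf_le_right hg
  have hstab : ∀ q ∈ Q, ⁅(k : G), q⁆ ∈ (Cfsg.pCore p L).map L.subtype := by
    intro q hq
    refine ⟨⁅k, ⟨q, hQL hq⟩⁆, hWR ?_, by simp [commutatorElement_def]⟩
    have hnorm : ((Subgroup.centralizer (Cfsg.pCore p L : Set L))).Normal := inferInstance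
    have h2 := commutator_mem_left (A := Subgroup.centralizer (Cfsg.pCore p L : Set L))
      (y := (⟨q, hQL hq⟩ : L)) (Subgroup.normalizer_eq_top
        (H := Subgroup.centralizer (Cfsg.pCore p L : Set L)) ▸ trivial) hk
    refine ⟨(⁅k, ⟨q, hQL hq⟩⁆ : L).2, hKD _ h2, fun n hn => ?_⟩
    simp only [Subgroup.coe_subtype, commutatorElement_def, Subgroup.coe_mul, Subgroup.coe_inv]
    -- `q` and `k q⁻¹ k⁻¹` both send `N` into `D` by commutation
    have hs : ∀ r ∈ Q, ∀ m ∈ N, r * m * r⁻¹ * m⁻¹ ∈ D := by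
      intro r hr m hm
      refine ⟨?_, ?_⟩
      · have := commutator_mem_right (hQ1n r) hm.1
        simpa [commutatorElement_def] using this
      · have hmQ : m ∈ Subgroup.normalizer (Q : Set G) := hQn ((PLocal.pCore_le_sylow T) hm.1)
        have h5 := (Subgroup.mem_normalizer_iff.1 hmQ r⁻¹).1 (Q.inv_mem hr)
        have h6 : r * (m * r⁻¹ * m⁻¹) ∈ L := L.mul_mem (hQL hr) (hQL h5)
        simpa [mul_assoc] using h6
    have hkN := hLN _ k.2
    set m := (k : G)⁻¹ * (q⁻¹ * n * q) * k with hm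
    have hn1 : q⁻¹ * n * q ∈ N := by
      have := (Subgroup.mem_normalizer_iff.1 (hLN _ (L.inv_mem (hQL hq))) n).1 hn
      simpa using this
    have hm1 : m ∈ N := by
      have := (Subgroup.mem_normalizer_iff.1 (hLN _ (L.inv_mem k.2)) _).1 hn1
      simpa [hm] using this
    have e1 := (Subgroup.mem_normalizer_iff.1 (hLD _ k.2) _).1 (hs q hq m hm1)
    have e2 := D.inv_mem (hs q hq _ hn1)
    have := D.mul_mem e1 e2
    convert this using 1
    rw [hm]
    group
  have hkR : (k : G) ∈ Subgroup.centralizer (((Cfsg.pCore p L).map L.subtype : Subgroup G) : Set G) := by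
    rw [Subgroup.mem_centralizer_iff]
    rintro _ ⟨r, hr, rfl⟩
    exact congrArg Subtype.val (Subgroup.mem_centralizer_iff.1 hk r hr)
  have h7 : (k : G) ∈ Subgroup.centralizer (Q : Set G) :=
    LocalStructure.mem_centralizer_of_stab ((PLocal.isPGroup_pCore p L).map _) hc' hkR hstab
  have h8 : (k : G) ∈ Q := centralizer_le_of_self_centralizing hG T Q hQT hQn hC h7
  exact Subtype.ext (LocalStructure.eq_one_of_coprime_of_mem (T.2.to_le hQT) h8 hc')

end CfsgLib.CharP49
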